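import Cfsg.Agent.H251.GeoU
import Cfsg.Agent.S0285
import Cfsg.Agent.S0278
import Cfsg.Agent.S5663

/-!
# Maximal subgroups of `SU_n(q)` transitive on isotropic points: the geometric classes (helper392)

`residual` : `n ≥ 6`, `q ≥ 3`, `K` maximal in `SU_n(q)`, transitive on the isotropic points, `|SU_n(q)| ≤ 3 |K|²`; then `K` is in the
residual class (`InUnitaryResidualClass K`).
-/

set_option autoImplicit false
set_option linter.unusedSectionVars false

namespace Cfsg.Agent.H392.UG

open Cfsg Cfsg.Geo Module Cfsg.Agent.H251 Cfsg.Agent.H251.GeoU Cfsg.Agent.H918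
open scoped Matrix MatrixGroups

/-- transitive on the isotropic points -/
def TransIso (n : ℕ) (F : Type*) [Field F] (q : ℕ) (K : Subgroup (GL (Fin n) F)) : Prop :=
  ∀ v w : Fin n → F, v ≠ 0 → w ≠ 0 → hermForm n F q v v = 0 → hermForm n F q w w = 0 →
    ∃ g ∈ K, ∃ c : F, (g : Matrix (Fin n) (Fin n) F) *ᵥ v = c • w

section Orbit

variable {F : Type*} [Field F] {n q : ℕ}

/-- the action of `K × Fˣ` on vectors -/
@[reducible] def act (K : Subgroup (GL (Fin n) F)) : MulAction (K × Fˣ) (Fin n → F) where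
  smul p v := (p.2 : F) • (((p.1 : GL (Fin n) F) : Matrix (Fin n) (Fin n) F) *ᵥ v)
  one_smul v := by
    change ((1 : Fˣ) : F) • (((1 : GL (Fin n) F) : Matrix (Fin n) (Fin n) F) *ᵥ v) = v
    rw [Units.val_one, Units.val_one, Matrix.one_mulVec, one_smul]
  mul_smul p r v := by
    change ((p.2 * r.2 : Fˣ) : F) • ((((p.1 : GL (Fin n) F) * (r.1 : GL (Fin n) F) : GL (Fin n) F) :
      Matrix (Fin n) (Fin n) F) *ᵥ v) = (p.2 : F) • (((p.1 : GL (Fin n) F) : Matrix (Fin n) (Fin n) F) *ᵥ
        ((r.2 : F) • (((r.1 : GL (Fin n) F) : Matrix (Fin n) (Fin n) F) *ᵥ v)))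
    rw [Units.val_mul, Units.val_mul, Matrix.mulVec_smul, Matrix.mulVec_mulVec, smul_smul]

end Orbit

section Finite

variable {F : Type*} [Field F] [Fintype F] {n q : ℕ}

theorem mulVec_ne_zero (g : GL (Fin n) F) {v : Fin n → F} (hv : v ≠ 0) :
    (g : Matrix (Fin n) (Fin n) F) *ᵥ v ≠ 0 := by
  intro h
  apply hv
  have h1 : ((g⁻¹ : GL (Fin n) F) : Matrix (Fin n) (Fin n) F) *ᵥ ((g : Matrix (Fin n) (Fin n) F) *ᵥ v) = v := by
    rw [Matrix.mulVec_mulVec, ← Units.val_mul, inv_mul_cancel, Units.val_one, Matrix.one_mulVec]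
  rw [← h1, h, Matrix.mulVec_zero]

/-- the number of nonzero isotropic vectors divides `|K| (q² - 1)` -/
theorem iso_dvd (hF : Fintype.card F = q ^ 2) {K : Subgroup (GL (Fin n) F)} (hK : K ≤ Cfsg.GU n F q)
    (htr : TransIso n F q K) (hn : 2 ≤ n) :
    (if Even n then (q ^ n - 1) * (q ^ (n - 1) + 1) else (q ^ n + 1) * (q ^ (n - 1) - 1)) ∣
      Nat.card K * (q ^ 2 - 1) := by
  classical
  have hq : 1 < q := by
    have h1 := Fintype.one_lt_card (α := F)
    rw [hF] at h1
    by_contra h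
    have h2 : q ^ 2 ≤ 1 ^ 2 := Nat.pow_le_pow_left (by omega) 2
    omega
  have hcount := S0285.result hF n
  set N := (if Even n then (q ^ n - 1) * (q ^ (n - 1) + 1) else (q ^ n + 1) * (q ^ (n - 1) - 1)) with hN
  have hNpos : 0 < N := by
    rw [hN]
    have h1 : 1 < q ^ n := Nat.one_lt_pow (by omega) hq
    have h2 : 1 < q ^ (n - 1) := Nat.one_lt_pow (by omega) hq
    split_ifs
    · exact Nat.mul_pos (by omega) (by omega)
    · exact Nat.mul_pos (by omega) (by omega)
  -- nonzero isotropic vectors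
  have h0 : hermForm n F q (0 : Fin n → F) 0 = 0 := LieClassical.HermBasic.herm_zero_left _
  have hcount2 : Nat.card {v : Fin n → F // v ≠ 0 ∧ hermForm n F q v v = 0} = N := by
    have h1 : Nat.card {v : Fin n → F // v ≠ 0 ∧ hermForm n F q v v = 0} + 1 =
        Nat.card {v : Fin n → F // hermForm n F q v v = 0} := by
      rw [Nat.card_eq_fintype_card, Nat.card_eq_fintype_card, Fintype.card_subtype, Fintype.card_subtype]
      have h1 : (Finset.univ.filter (fun v : Fin n → F => v ≠ 0 ∧ hermForm n F q v v = 0)) =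
          (Finset.univ.filter (fun v : Fin n → F => hermForm n F q v v = 0)).erase 0 := by
        ext v
        simp only [Finset.mem_filter, Finset.mem_univ, true_and, Finset.mem_erase]
      rw [h1, Finset.card_erase_of_mem (by simp [h0])]
      have h2 : 0 < (Finset.univ.filter (fun v : Fin n → F => hermForm n F q v v = 0)).card :=
        Finset.card_pos.2 ⟨0, by simp [h0]⟩
      omega
    rw [hcount] at h1
    omega
  have hne : Nonempty {v : Fin n → F // v ≠ 0 ∧ hermForm n F q v v = 0} := by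
    by_contra h
    rw [not_nonempty_iff] at h
    rw [Nat.card_eq_zero.2 (Or.inl h)] at hcount2
    omega
  obtain ⟨v0, hv0, hv0'⟩ := hne
  let _ : MulAction (K × Fˣ) (Fin n → F) := act K
  have horb : MulAction.orbit (K × Fˣ) v0 = {v : Fin n → F | v ≠ 0 ∧ hermForm n F q v v = 0} := by
    ext v
    constructor
    · rintro ⟨p, rfl⟩
      change (p.2 : F) • (((p.1 : GL (Fin n) F) : Matrix (Fin n) (Fin n) F) *ᵥ v0) ≠ 0 ∧
        hermForm n F q ((p.2 : F) • (((p.1 : GL (Fin n) F) : Matrix (Fin n) (Fin n) F) *ᵥ v0))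
          ((p.2 : F) • (((p.1 : GL (Fin n) F) : Matrix (Fin n) (Fin n) F) *ᵥ v0)) = 0
      refine ⟨smul_ne_zero p.2.ne_zero (mulVec_ne_zero _ hv0), ?_⟩
      rw [LieClassical.HermBasic.herm_smul_left, LieClassical.HermBasic.herm_smul_right,
        H918.mem_GU.1 (hK p.1.2), hv0', mul_zero, mul_zero]
    · rintro ⟨hv, hv'⟩
      obtain ⟨g, hg, c, hc⟩ := htr v0 v hv0 hv hv0' hv'
      have hc0 : c ≠ 0 := by
        rintro rfl
        rw [zero_smul] at hc
        exact mulVec_ne_zero g hv0 hc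
      refine ⟨(⟨g, hg⟩, (Units.mk0 c hc0)⁻¹), ?_⟩
      change (((Units.mk0 c hc0)⁻¹ : Fˣ) : F) • ((g : Matrix (Fin n) (Fin n) F) *ᵥ v0) = v
      rw [hc, smul_smul, Units.val_inv_eq_inv_val, Units.val_mk0, inv_mul_cancel₀ hc0, one_smul]
  have hfin : Finite (GL (Fin n) F) := inferInstance
  have hos := Nat.card_congr (MulAction.orbitProdStabilizerEquivGroup (K × Fˣ) v0)
  rw [Nat.card_prod, Nat.card_prod] at hos
  have horbc : Nat.card (MulAction.orbit (K × Fˣ) v0) = N := by
    rw [horb]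
    exact hcount2
  have hFu : Nat.card Fˣ = q ^ 2 - 1 := by
    rw [Nat.card_units, Nat.card_eq_fintype_card, hF]
  rw [horbc, hFu] at hos
  exact ⟨_, hos.symm⟩

/-- the primitive prime divisors divide `|K|` -/
theorem prime_dvd (hF : Fintype.card F = q ^ 2) {K : Subgroup (GL (Fin n) F)} (hK : K ≤ Cfsg.GU n F q)
    (htr : TransIso n F q K) (hn : 2 ≤ n) {s m : ℕ} (hs : s.Prime) (hord : orderOf (-(q : ZMod s)) = m)
    (hm3 : 3 ≤ m) (hm : m = n ∨ m + 1 = n) : s ∣ Nat.card K := by
  have := Fact.mk hs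
  have hq : 1 ≤ q := LieClassical.HermBasic.q_pos hF
  have h1 := iso_dvd hF hK htr hn
  have hpw : (-(q : ZMod s)) ^ m = 1 := by rw [← hord, pow_orderOf_eq_one]
  have hev : ∀ k : ℕ, k = m → Even k → s ∣ q ^ k - 1 := by
    rintro k rfl hk
    rw [hk.neg_pow] at hpw
    rw [← ZMod.natCast_eq_zero_iff, Nat.cast_sub (Nat.one_le_pow _ _ hq)]
    push_cast
    rw [hpw, sub_self]
  have hod : ∀ k : ℕ, k = m → ¬ Even k → s ∣ q ^ k + 1 := by
    rintro k rfl hk
    rw [Nat.not_even_iff_odd] at hk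
    rw [hk.neg_pow] at hpw
    rw [← ZMod.natCast_eq_zero_iff]
    push_cast
    rw [← hpw]
    ring
  have hdv : s ∣ (if Even n then (q ^ n - 1) * (q ^ (n - 1) + 1) else (q ^ n + 1) * (q ^ (n - 1) - 1)) := by
    rcases hm with hm | hm
    · split_ifs with he
      · exact (hev n hm.symm he).mul_right _
      · exact (hod n hm.symm he).mul_right _
    · have hm' : n - 1 = m := by omega
      split_ifs with he
      · refine (hod (n - 1) hm' ?_).mul_left _
        rw [Nat.not_even_iff_odd]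
        obtain ⟨k, hk⟩ := he
        exact ⟨k - 1, by omega⟩
      · refine (hev (n - 1) hm' ?_).mul_left _
        rw [Nat.not_even_iff_odd] at he
        obtain ⟨k, hk⟩ := he
        exact ⟨k, by omega⟩
  refine (hs.dvd_mul.1 (hdv.trans h1)).resolve_right fun h2 => ?_
  have h3 : (-(q : ZMod s)) ^ 2 = 1 := by
    rw [← ZMod.natCast_eq_zero_iff, Nat.cast_sub (Nat.one_le_pow _ _ hq)] at h2
    push_cast at h2
    rw [neg_sq]
    exact sub_eq_zero.1 h2
  have h4 := orderOf_le_of_pow_eq_one (by norm_num) h3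
  omega

/-- the normaliser of a field of full degree has order at most `n q^(2n)` -/
theorem card_full (hF : Fintype.card F = q ^ 2) (hn : 0 < n) {K : Subalgebra F (Matrix (Fin n) (Fin n) F)}
    (hK : IsFieldSubalgebra n K) : Nat.card (subalgebraNormalizer K) ≤ q ^ (2 * n) * n := by
  classical
  have hne : Nonempty (Fin n) := ⟨⟨0, hn⟩⟩
  have hfin : Finite (GL (Fin n) F) := inferInstance
  have hN : H912.NormAlg (subalgebraNormalizer K) K := fun _ hh a ha => (hh a).mp ha
  let _ : Field K := (H912.isField_of_fieldSub hK).toField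
  have hfd : Module.Finite F K := inferInstance
  have hKfin : Finite K := Module.finite_of_finite F
  have hgal : IsGalois F K := inferInstance
  let φ : subalgebraNormalizer K →* (K ≃ₐ[F] K) :=
    { toFun := fun h => H912.conjSub hN h
      map_one' := by
        apply AlgEquiv.ext
        intro x
        apply Subtype.ext
        rw [H912.conjSub_coe]
        simp
      map_mul' := fun a b => by
        apply AlgEquiv.ext
        intro x
        apply Subtype.ext
        rw [AlgEquiv.mul_apply, H912.conjSub_coe, H912.conjSub_coe, H912.conjSub_coe, Subgroup.coe_mul,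
          _root_.mul_inv_rev, Units.val_mul, Units.val_mul]
        simp only [Matrix.mul_assoc] }
  have hker : Nat.card φ.ker ≤ q ^ (2 * n) := by
    have hmem : ∀ g : φ.ker, (((g : subalgebraNormalizer K) : GL (Fin n) F) : Matrix (Fin n) (Fin n) F) ∈ K := by
      intro g
      apply H922.mem_of_commute (by rwa [Fintype.card_fin]) (by rwa [Fintype.card_fin])
      intro k hk
      have h1 : (H912.conjSub hN (g : subalgebraNormalizer K)) = 1 := g.2
      have h2 := H912.conjSub_coe hN (g : subalgebraNormalizer K) ⟨k, hk⟩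
      rw [h1] at h2
      change k = _ at h2
      conv_rhs => rw [h2]
      rw [Matrix.mul_assoc, ← Units.val_mul, inv_mul_cancel, Units.val_one, Matrix.mul_one]
    have hinj : Function.Injective (fun g : φ.ker => (⟨_, hmem g⟩ : K)) := by
      intro a b hab
      apply Subtype.ext
      apply Subtype.ext
      apply Units.ext
      exact congrArg Subtype.val hab
    have h1 := Nat.card_le_card_of_injective _ hinj
    have h2 : Nat.card K = q ^ (2 * n) := by
      rw [Module.natCard_eq_pow_finrank (K := F), hK.finrank_eq, Nat.card_eq_fintype_card, hF, ← pow_mul]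
    rwa [h2] at h1
  have hran : Nat.card φ.range ≤ n := by
    have h1 : Nat.card (K ≃ₐ[F] K) = n := by
      rw [IsGalois.card_aut_eq_finrank, hK.finrank_eq]
    have hf2 : Finite (K ≃ₐ[F] K) := Nat.finite_of_card_ne_zero (by rw [h1]; omega)
    calc Nat.card φ.range ≤ Nat.card (K ≃ₐ[F] K) := Nat.card_le_card_of_injective _ φ.range.subtype_injective
      _ = n := h1
  have h1 := Subgroup.card_eq_card_quotient_mul_card_subgroup φ.ker
  have h2 : Nat.card (subalgebraNormalizer K ⧸ φ.ker) = Nat.card φ.range :=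
    Nat.card_congr (QuotientGroup.quotientKerEquivRange φ).toEquiv
  rw [h1, h2, mul_comm]
  exact Nat.mul_le_mul hker hran

/-- a lower bound for `|SU_n(q)|` -/
theorem card_ge (hF : Fintype.card F = q ^ 2) (hn : 1 ≤ n) (hq : 2 ≤ q) :
    q ^ (n * (n - 1) / 2 + n * (n - 1) / 2) ≤ Nat.card (SUg n F q) := by
  have h1 : Nat.card (SUg n F q) = Nat.card (SU n F q) := by
    have h2 : (SUg n F q) = (⊤ : Subgroup (SU n F q)).map (suHom n F q) := by
      apply le_antisymm
      · intro g hg
        obtain ⟨A, hA⟩ := exists_suHom hg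
        exact ⟨A, Subgroup.mem_top _, hA⟩
      · rintro _ ⟨A, -, rfl⟩
        exact suHom_mem A
    rw [h2, ← Nat.card_congr (Subgroup.equivMapOfInjective _ _ suHom_injective).toEquiv, Subgroup.card_top]
  rw [h1]
  have h3 := S0278.result hF n hn
  obtain ⟨k, rfl⟩ : ∃ k, n = k + 1 := ⟨n - 1, by omega⟩
  have hprod : (q + 1) * q ^ ((k + 1) * k / 2) ≤
      ∏ i ∈ Finset.range (k + 1), (if Even i then q ^ (i + 1) + 1 else q ^ (i + 1) - 1) := by
    have key : ∀ j : ℕ, (q + 1) * q ^ ((j + 1) * j / 2) ≤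
      ∏ i ∈ Finset.range (j + 1), (if Even i then q ^ (i + 1) + 1 else q ^ (i + 1) - 1) := by
      intro j
      induction j with
      | zero => simp
      | succ j ih =>
        rw [Finset.prod_range_succ]
        have h4 : (j + 1 + 1) * (j + 1) / 2 = (j + 1) * j / 2 + (j + 1) := by
          have : (j + 1 + 1) * (j + 1) = (j + 1) * j + 2 * (j + 1) := by ring
          rw [this, Nat.add_mul_div_left _ _ (by norm_num)]
        rw [h4, pow_add, ← mul_assoc]
        apply Nat.mul_le_mul ih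
        have h5 : q ^ (j + 1) < q ^ (j + 1 + 1) := Nat.pow_lt_pow_right (by omega) (by omega)
        split_ifs <;> omega
    exact key k
  rw [show k + 1 - 1 = k by omega] at h3 ⊢
  rw [pow_add]
  have h4 : (q + 1) * (q ^ ((k + 1) * k / 2) * q ^ ((k + 1) * k / 2)) ≤ (q + 1) * Nat.card (SU (k + 1) F q) := by
    rw [h3]
    calc (q + 1) * (q ^ ((k + 1) * k / 2) * q ^ ((k + 1) * k / 2)) =
        q ^ ((k + 1) * k / 2) * ((q + 1) * q ^ ((k + 1) * k / 2)) := by ring
      _ ≤ _ := Nat.mul_le_mul_left _ hprod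
  exact Nat.le_of_mul_le_mul_left h4 (by omega)

theorem num_aux {q n : ℕ} (hq : 2 ≤ q) (hn : 7 ≤ n) :
    3 * (q ^ (2 * n) * n) ^ 2 < q ^ (n * (n - 1) / 2 + n * (n - 1) / 2) := by
  obtain ⟨k, rfl⟩ : ∃ k, n = k + 7 := ⟨n - 7, by omega⟩
  have h1 : (k + 7) * (k + 7 - 1) / 2 + (k + 7) * (k + 7 - 1) / 2 = (k + 7) * (k + 6) := by
    have h2 : 2 ∣ (k + 7) * (k + 6) := by
      rcases Nat.even_or_odd k with ⟨j, hj⟩ | ⟨j, hj⟩
      · exact Dvd.dvd.mul_left ⟨j + 3, by omega⟩ _
      · exact Dvd.dvd.mul_right ⟨j + 4, by omega⟩ _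
    rw [show k + 7 - 1 = k + 6 by omega]
    omega
  rw [h1]
  have h2 : 3 * (k + 7) ^ 2 < 2 ^ (k + 8) := by
    have key : ∀ j : ℕ, 3 * (j + 7) ^ 2 < 2 ^ (j + 8) := by
      intro j
      induction j with
      | zero => norm_num
      | succ j ih =>
        rw [show j + 1 + 8 = (j + 8) + 1 by ring, pow_succ 2 (j + 8)]
        have h3 : (j + 1 + 7) ^ 2 ≤ 2 * (j + 7) ^ 2 := by
          have h4 : 2 * (j + 7) ^ 2 = (j + 1 + 7) ^ 2 + (j * j + 12 * j + 34) := by ring
          omega
        omega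
    exact key k
  have h3 : 2 ^ (k + 8) ≤ q ^ (k + 8) := Nat.pow_le_pow_left hq _
  have h4 : (q ^ (2 * (k + 7)) * (k + 7)) ^ 2 = q ^ (4 * (k + 7)) * (k + 7) ^ 2 := by
    rw [mul_pow, ← pow_mul]
    congr 2
    ring
  have h5 : q ^ (4 * (k + 7)) * q ^ (k + 8) ≤ q ^ ((k + 7) * (k + 6)) := by
    rw [← pow_add]
    exact Nat.pow_le_pow_right (by omega) (by nlinarith)
  rw [h4]
  have h6 : 0 < q ^ (4 * (k + 7)) := by positivity
  nlinarith

/-- **no member of a geometric class** -/
theorem not_le_class (hF : Fintype.card F = q ^ 2) (hn : 6 ≤ n) {K M : Subgroup (GL (Fin n) F)}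
    (hK : K ≤ Cfsg.GU n F q) (htr : TransIso n F q K) (hord : Nat.card (SUg n F q) ≤ 3 * Nat.card K ^ 2)
    (hM : InUnitaryClass n F q M) (hKM : K ≤ M) : False := by
  obtain ⟨p, f, hp, hf, hq, hpF⟩ := exists_prime_power hF
  have hne : Nonempty (Fin n) := ⟨⟨0, by omega⟩⟩
  have hfin : Finite (GL (Fin n) F) := inferInstance
  obtain ⟨m, hm, hmn, hnm, hm3⟩ : ∃ m, Odd m ∧ m ≤ n ∧ n ≤ m + 1 ∧ 5 ≤ m := by
    rcases Nat.even_or_odd n with ⟨k, hk⟩ | h
    · exact ⟨n - 1, ⟨k - 1, by omega⟩, by omega, by omega, by omega⟩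
    · exact ⟨n, h, le_rfl, by omega, by omega⟩
  obtain ⟨s, hs, hiff, hs1, hord'⟩ := exists_big hp hf (by omega : 3 ≤ m) hm (by
    rintro ⟨h1, h2⟩
    omega)
  rw [← hq] at hord'
  have hsbig : n + 1 < s := by
    have h1 := Nat.le_of_dvd (by have := hs.two_le; omega) hs1
    have h2 : 2 * m * 1 ≤ 2 * m * f := Nat.mul_le_mul_left _ hf
    omega
  have hsM : s ∣ Nat.card M :=
    (prime_dvd hF hK htr (by omega) hs hord' (by omega) (by omega)).trans (Subgroup.card_dvd_of_le hKM)
  rcases hM with hM | hM | hM | hM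
  · rcases hM with hM | hM | hM | hM | hM | hM | hM | hM
    · obtain ⟨W, hW0, hW, rfl⟩ := hM
      exact (kill_ts hF hs hord' hm (by omega) hnm hW0 hW hsM).elim
    · obtain ⟨W, hW0, hW, hW2, rfl⟩ := hM
      obtain ⟨hnm', hW1⟩ := kill_nd hF hs hord' hm (by omega) hnm hW0 hW2 hsM
      have hev : Even n := by
        obtain ⟨k, hk⟩ := hm
        exact ⟨k + 1, by omega⟩
      obtain ⟨v, hv, hvo, -, -, -⟩ := H149.NegPrime.exists_neg_prime (i := n) hp hq hf (by omega) (by omega)
      exact kill_point hF hv hvo hev (by omega) hW1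
        ((prime_dvd hF hK htr (by omega) hv hvo (by omega) (Or.inl rfl)).trans (Subgroup.card_dvd_of_le hKM))
    · obtain ⟨t, k, D, hD, rfl⟩ := hM
      exact (kill_decomp hF hs hord' hm (by omega) hnm (by omega) hD.decomp (dvd_left hsM)).elim
    · obtain ⟨k, D, hk, hD, -, rfl⟩ := hM
      exact (kill_decomp hF hs hord' hm (by omega) hnm (by omega) hD (dvd_left hsM)).elim
    · obtain ⟨F₀, r, P, hr, hro, hc, -, rfl⟩ := hM
      exact (kill_subfield hF hp hq hf hs hiff hord' hm (by omega) hnm hr.two_le hc (dvd_left hsM)).elim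
    · obtain ⟨F₀, P, -, hc, -, rfl⟩ := hM
      exact (kill_subfield hF hp hq hf hs hiff hord' hm (by omega) hnm le_rfl hc (dvd_left hsM)).elim
    · obtain ⟨F₀, P, ζ, -, hc, -, -, -, -, rfl⟩ := hM
      exact (kill_subfield hF hp hq hf hs hiff hord' hm (by omega) hnm le_rfl hc (dvd_left hsM)).elim
    · obtain ⟨r, R, p', e, k, hR, habs, -, -, -, hc, rfl⟩ := hM
      have ht : H920.IsType r k R := by
        rcases hc with ⟨h1, h2, -, h3⟩ | ⟨h1, -, h2, h3⟩
        · exact Or.inl ⟨h1, h2, h3⟩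
        · exact Or.inr ⟨h1, h2, h3⟩
      exact (kill_symp hF hs hord' hm (by omega) hnm hsbig hR habs ht (dvd_left hsM)).elim
  · obtain ⟨r, L, hr, hro, hL, -, rfl⟩ := hM
    have hr3 : 3 ≤ r := by
      have := hr.two_le
      obtain ⟨k, hk⟩ := hro
      omega
    rcases Nat.even_or_odd n with hev | hodd
    · have hnm' : n = m + 1 := by
        obtain ⟨k, hk⟩ := hm
        obtain ⟨l, hl⟩ := hev
        omega
      exact (kill_field_even hF hs hord' hm (by omega) hnm' (by omega) hr hr3 hL (dvd_left hsM)).elim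
    · have hn7 : 7 ≤ n := by
        obtain ⟨l, hl⟩ := hodd
        omega
      obtain ⟨v, hv, hvo, -, hvp, -⟩ := H149.NegPrime.exists_neg_prime (i := n - 1) hp hq hf (by omega) (by omega)
      have hvM := (prime_dvd hF hK htr (by omega) hv hvo (by omega) (Or.inr (by omega))).trans
        (Subgroup.card_dvd_of_le hKM)
      obtain ⟨hvn, hrn⟩ := kill_field_odd hF hv hvo hodd (by omega) hr hr3 hL (dvd_left hvM)
      subst hrn
      have h1 := card_full hF (by omega) hL
      have h2 : Nat.card K ≤ Nat.card (subalgebraNormalizer L) :=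
        Nat.card_le_card_of_injective _ (Subgroup.inclusion_injective (hKM.trans inf_le_left))
      have hq2 : 2 ≤ q := by
        rw [hq]
        calc 2 ≤ p := hp.two_le
          _ = p ^ 1 := (pow_one p).symm
          _ ≤ p ^ f := Nat.pow_le_pow_right hp.pos hf
      have h3 := card_ge (n := r) hF (by omega) hq2
      have h4 := num_aux hq2 hn7
      have h5 : 3 * Nat.card K ^ 2 ≤ 3 * (q ^ (2 * r) * r) ^ 2 :=
        Nat.mul_le_mul_left _ (Nat.pow_le_pow_left (h2.trans h1) 2)
      omega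
  · obtain ⟨n₁, n₂, e, P, f₁, f₂, h2, hlt, -, -, -, rfl⟩ := hM
    exact (kill_tensor hF hs hord' hm (by omega) hnm e P h2 hlt (dvd_left hsM)).elim
  · obtain ⟨k, t, e, P, f₁, hk, ht, -, -, -, rfl⟩ := hM
    exact (kill_wreath hF hs hord' hm (by omega) hnm (by omega) e P hk ht (dvd_left hsM)).elim

/-- **(B1)** -/
theorem residual (hF : Fintype.card F = q ^ 2) (hn : 6 ≤ n) {K : Subgroup (GL (Fin n) F)}
    (hmax : IsMaximalIn (SUg n F q) K) (htr : TransIso n F q K)
    (hord : Nat.card (SUg n F q) ≤ 3 * Nat.card K ^ 2) : InUnitaryResidualClass K := by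
  rcases S5663.result (F := F) n q hF (by omega) (by omega) K hmax.1.le
    (sup_scalars_ne hF (by omega) (by omega) hmax) with ⟨X, hX, hle⟩ | h
  · exact (not_le_class hF hn (hmax.1.le.trans inf_le_left) htr hord hX hle).elim
  · exact h

end Finite

end Cfsg.Agent.H392.UG
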